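import Groth.Agent.Sga4h.H564.Cons
import Groth.Agent.Sga4A.HensFibre
import Groth.Agent.Etcore.HpullEq

/-!
# Conservation of number (S4246), unconditional form

`pbc : LocZero.PBC` from `Sga4A.HensFibre.Hpull_proper`, and `cons p M : Cons p M` for `p` proper over an
algebraically closed field, `M` finite.
-/

set_option autoImplicit false
universe u
open CategoryTheory CategoryTheory.Limits AlgebraicGeometry Opposite
open scoped Groth.Agent.Etcore.EtInst

namespace Groth.Agent.Sga4h.H564.ConsPBC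

open Groth.Agent.Etcore.EtInst Groth.Agent.Vancyc.H687 Groth.Agent.Sga4h.H556.SimpleDat
  Groth.Agent.Sga4B.DualShape

theorem pbc : LocZero.PBC.{u} := by
  intro A _ I _ X X' f _ i f' h F hF q
  exact (Groth.Agent.Etcore.HpullCalc.bijective_Hpull_iff i F q).1
    (Groth.Agent.Sga4A.HensFibre.Hpull_proper A I f i f' h F hF q)

variable {k : Type u} [Field k] [IsAlgClosed k]

/-- **Conservation of number.** -/
theorem cons {X : Scheme.{u}} (p : X ⟶ Spec (CommRingCat.of k)) [IsProper p] (M : Type)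
    [AddCommGroup M] [Finite M] : Cons p M :=
  Cons.cons_of_finite pbc p M

/-- **Conservation of number**, for `DualShape.HpullConst`. -/
theorem HpullConst_eq {X S W : Scheme.{u}} {p : X ⟶ Spec (CommRingCat.of k)}
    {s : S ⟶ Spec (CommRingCat.of k)} {pr₁ : W ⟶ X} {pr₂ : W ⟶ S} (h : IsPullback pr₁ pr₂ p s)
    [IsProper p] [LocallyOfFiniteType s] [PreconnectedSpace S] (M : Type) [AddCommGroup M] [Finite M]
    (m : ℕ) (x₀ x₁ : X ⟶ W)
    (s₀ s₁ : Spec (CommRingCat.of k) ⟶ S) (h₀ : x₀ ≫ pr₁ = 𝟙 X) (h₁ : x₁ ≫ pr₁ = 𝟙 X)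
    (h₀' : x₀ ≫ pr₂ = p ≫ s₀) (h₁' : x₁ ≫ pr₂ = p ≫ s₁) (hs₀ : s₀ ≫ s = 𝟙 _)
    (hs₁ : s₁ ≫ s = 𝟙 _) (z : EtCoh.H W (EtCoh.const W M) m) :
    HpullConst x₀ M m z = HpullConst x₁ M m z :=
  Cons.HpullConst_eq pbc h M (Cons.isTorsion_const M W) m x₀ x₁ s₀ s₁ h₀ h₁ h₀' h₁' hs₀ hs₁ z

end Groth.Agent.Sga4h.H564.ConsPBC
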