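import Groth.Agent.Sga4h.H556.SimpleDat
import Groth.Agent.Sga4h.H556.HcEq
import Groth.Agent.Vancyc.H687.Rigid
import Groth.Agent.Etrest.ConstBasic

/-!
# Conservation of number (S4246)

`X` proper over an algebraically closed field `k`, `S` connected and locally of finite type over `k`, `M` torsion:
the restrictions of a class in `H^m(X ×_k S, M)` to the slices `X × {s}`, `s ∈ S(k)`, coincide
(from helper687's `Rigid.rigid`; proper base change is the hypothesis `PBC`).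

* `hc_eq_HC`: helper556's pull back `hc` is `Etcore.HC.HC`;
* `hc_eq`: the statement for two slices of a cartesian square;
* `HpullConst_eq`: the same for `DualShape.HpullConst`;
* `cons_of`: `Cons p M`.
-/

set_option autoImplicit false
universe u
open CategoryTheory CategoryTheory.Limits AlgebraicGeometry Opposite
open scoped Groth.Agent.Etcore.EtInst

namespace Groth.Agent.Sga4h.H564.Cons

open Groth.Agent.Etcore.EtInst Groth.Agent.Etcore.HC Groth.Agent.Vancyc.H687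
  Groth.Agent.Sga4h.H556.Supp Groth.Agent.Sga4h.H556.SimpleDat Groth.Agent.Sga4h.H13
  Groth.Agent.Sga4B.DualShape

theorem hc_eq_HC {X Y : Scheme.{u}} (M : Type) [AddCommGroup M] (g : X ⟶ Y) (m : ℕ)
    (x : HH Y (EtCoh.const Y M) m) : hc M g m x = HC M g m x := by
  rw [hc_apply, HC_apply]

variable {k : Type u} [Field k] [IsAlgClosed k]

/-- **Conservation of number**, for two slices of a cartesian square. -/
theorem hc_eq (hP : LocZero.PBC.{u}) {X S W : Scheme.{u}} {p : X ⟶ Spec (CommRingCat.of k)}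
    {s : S ⟶ Spec (CommRingCat.of k)} {pr₁ : W ⟶ X} {pr₂ : W ⟶ S} (h : IsPullback pr₁ pr₂ p s)
    [IsProper p] [LocallyOfFiniteType s] [PreconnectedSpace S] (M : Type) [AddCommGroup M]
    (hM : EtCoh.IsTorsion (EtCoh.const W M)) (m : ℕ) (x₀ x₁ : X ⟶ W)
    (s₀ s₁ : Spec (CommRingCat.of k) ⟶ S) (h₀ : x₀ ≫ pr₁ = 𝟙 X) (h₁ : x₁ ≫ pr₁ = 𝟙 X)
    (h₀' : x₀ ≫ pr₂ = p ≫ s₀) (h₁' : x₁ ≫ pr₂ = p ≫ s₁) (hs₀ : s₀ ≫ s = 𝟙 _)
    (hs₁ : s₁ ≫ s = 𝟙 _) (z : HH W (EtCoh.const W M) m) : hc M x₀ m z = hc M x₁ m z := by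
  have e₀ : x₀ = Rigid.slice h s₀ hs₀ := h.hom_ext
    (h₀.trans (Rigid.slice_fst h s₀ hs₀).symm) (h₀'.trans (Rigid.slice_snd h s₀ hs₀).symm)
  have e₁ : x₁ = Rigid.slice h s₁ hs₁ := h.hom_ext
    (h₁.trans (Rigid.slice_fst h s₁ hs₁).symm) (h₁'.trans (Rigid.slice_snd h s₁ hs₁).symm)
  rw [e₀, e₁, hc_eq_HC, hc_eq_HC]
  exact Rigid.rigid h hP M hM m z s₀ hs₀ s₁ hs₁

/-- **Conservation of number**, for `DualShape.HpullConst`. -/
theorem HpullConst_eq (hP : LocZero.PBC.{u}) {X S W : Scheme.{u}} {p : X ⟶ Spec (CommRingCat.of k)}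
    {s : S ⟶ Spec (CommRingCat.of k)} {pr₁ : W ⟶ X} {pr₂ : W ⟶ S} (h : IsPullback pr₁ pr₂ p s)
    [IsProper p] [LocallyOfFiniteType s] [PreconnectedSpace S] (M : Type) [AddCommGroup M]
    (hM : EtCoh.IsTorsion (EtCoh.const W M)) (m : ℕ) (x₀ x₁ : X ⟶ W)
    (s₀ s₁ : Spec (CommRingCat.of k) ⟶ S) (h₀ : x₀ ≫ pr₁ = 𝟙 X) (h₁ : x₁ ≫ pr₁ = 𝟙 X)
    (h₀' : x₀ ≫ pr₂ = p ≫ s₀) (h₁' : x₁ ≫ pr₂ = p ≫ s₁) (hs₀ : s₀ ≫ s = 𝟙 _)
    (hs₁ : s₁ ≫ s = 𝟙 _) (z : EtCoh.H W (EtCoh.const W M) m) :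
    HpullConst x₀ M m z = HpullConst x₁ M m z :=
  (HpullConst_apply M x₀ m z).trans ((hc_eq hP h M hM m x₀ x₁ s₀ s₁ h₀ h₁ h₀' h₁' hs₀ hs₁ z).trans
    (HpullConst_apply M x₁ m z).symm)

/-- **Conservation of number** in the form used for S4246. -/
theorem cons_of (hP : LocZero.PBC.{u}) {X : Scheme.{u}} (p : X ⟶ Spec (CommRingCat.of k))
    [IsProper p] (M : Type) [AddCommGroup M]
    (hM : ∀ W : Scheme.{u}, EtCoh.IsTorsion (EtCoh.const W M)) : Cons p M := by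
  intro S b _ _ s₀ s₁ h₀ h₁ m y
  exact hc_eq hP (IsPullback.of_hasPullback p b) M (hM _) m _ _ s₀ s₁ (fib_fst p b s₀ h₀)
    (fib_fst p b s₁ h₁) (fib_snd p b s₀ h₀) (fib_snd p b s₁ h₁) h₀ h₁ y

/-- Finite constant sheaves are torsion. -/
theorem isTorsion_const (M : Type) [AddCommGroup M] [Finite M] (W : Scheme.{u}) :
    EtCoh.IsTorsion (EtCoh.const W M) :=
  Groth.Agent.Etrest.ConstBasic.isTorsion_of_killedBy (Nat.card_pos (α := M))
    (Groth.Agent.Etrest.ConstBasic.killedBy_const _ M (Nat.card M) (fun _ => card_nsmul_eq_zero'))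

/-- **Conservation of number** for finite coefficients. -/
theorem cons_of_finite (hP : LocZero.PBC.{u}) {X : Scheme.{u}} (p : X ⟶ Spec (CommRingCat.of k))
    [IsProper p] (M : Type) [AddCommGroup M] [Finite M] : Cons p M :=
  cons_of hP p M (isTorsion_const M)

end Groth.Agent.Sga4h.H564.Cons
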