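import Groth.Agent.Sga4h.H564.Gysin
import Groth.Agent.Sga4h.H914.GradedComm
import Groth.Agent.Fixpt.H926.HZero

/-!
# The class of the diagonal and its slices, from duality

`a : X ⟶ K` separated, `AS : SheafDual n trS` on `X ×_K X` in degree `N + N`, `AX : SheafDual n trX` on `X` in degree
`N`.  There is `c ∈ R^N(X ×_K X)` vanishing off the diagonal with `trS (z · c) = trX (Δ^* z)`; all its slices
`(x₀, 1)^* c`, `x₀ ∈ X(K)`, are nonzero.
-/

set_option autoImplicit false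

universe u t

open CategoryTheory CategoryTheory.Limits CategoryTheory.Abelian AlgebraicGeometry Opposite

namespace Groth.Agent.Sga4h.H564.Diag

open Groth.Agent.Sga4h.BidGlobDual Groth.Agent.Sga5.H861 Groth.Agent.Sga5.H861.Res
  Groth.Agent.Sga5.H861.Slices
open scoped Groth.Agent.Etcore.EtInst Groth.Agent.Sga4B.ModEtInst

section

variable {Λ : Type (u + 1)} [CommRing Λ] {X Y : Scheme.{u}}

/-- The unit of `R^*(X)`. -/
noncomputable abbrev one (Λ : Type (u + 1)) [CommRing Λ] (X : Scheme.{u}) : R Λ X 0 :=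
  Ext.mk₀ (𝟙 (FixPt.unit Λ X))

theorem res_one (f : X ⟶ Y) : res f 0 (one Λ Y) = one Λ X := by
  rw [res_apply, Ext.mapExactFunctor_mk₀, Ext.mk₀_comp_mk₀, Ext.mk₀_comp_mk₀]
  congr 1
  rw [CategoryTheory.Functor.map_id, Category.comp_id, Iso.inv_hom_id]

theorem one_mul {n : ℕ} (x : R Λ X n) : (one Λ X).comp x (zero_add n) = x := Ext.mk₀_id_comp x

theorem one_ne_zero [Nontrivial Λ] [Nonempty X] : one Λ X ≠ 0 := by
  intro h
  have h1 : 𝟙 (FixPt.unit Λ X) = 0 := (Ext.mk₀_bijective _ _).1 (h.trans (Ext.mk₀_zero _ _).symm)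
  refine _root_.one_ne_zero (α := Λ) (Fixpt.H926.HZero.eq_zero_of_smul_id (X := X) (1 : Λ) ?_)
  rw [one_smul, h1]

end

/-- **Graded commutativity**, for a commutative ring which is a field. -/
theorem comm {Λ : Type (u + 1)} [inst : CommRing Λ] (hΛ : IsField Λ) {X : Scheme.{u}} {m n : ℕ}
    (x : R Λ X m) (y : R Λ X n) :
    x.comp y (rfl : m + n = m + n) = ((-1 : ℤ) ^ (m * n)) • (y.comp x (add_comm n m)) := by
  obtain ⟨F, hF⟩ : ∃ F : Field Λ, F.toCommRing = inst := ⟨hΛ.toField, rfl⟩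
  subst hF
  exact H914.GradedComm.comm x y

section Diagonal

variable {Λ : Type (u + 1)} [CommRing Λ] {X K : Scheme.{u}} (a : X ⟶ K) [IsSeparated a]
  {n N NS : ℕ} {E : Type t} [AddCommGroup E]
  {trS : R Λ (pullback a a) NS →+ E} (AS : SheafDual n trS)
  {trX : R Λ X N →+ E} (AX : SheafDual n trX)

include AS in
/-- **The class of the diagonal.** -/
theorem exists_diag (h : N + N = NS) : ∃ c : R Λ (pullback a a) N, res (UΔ a).ι N c = 0 ∧
    ∀ z : R Λ (pullback a a) N, trS (z.comp c h) = trX (res (pullback.diagonal a) N z) := by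
  obtain ⟨c, h1, h2⟩ := Gysin.exists_class AS (pullback.diagonal a) h trX
  refine ⟨c, h2 _ (fun x => ?_), h1⟩
  have h3 := Set.disjoint_left.1 (isCompl_diagonal a).disjoint
  intro h4
  exact h3 h4 ⟨x, rfl⟩

include AX in
/-- **The class of a point.** -/
theorem exists_point (x₀ : K ⟶ X) (hx₀ : x₀ ≫ a = 𝟙 K) (t₀ : R Λ K 0 →+ E) :
    ∃ α : R Λ X N, res (U0 a x₀ hx₀).ι N α = 0 ∧ trX α = t₀ (one Λ K) := by
  have h0 : IsClosedImmersion x₀ := isClosedImmersion_x₀ a x₀ hx₀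
  obtain ⟨α, h1, h2⟩ := Gysin.exists_class AX x₀ (zero_add N) t₀
  refine ⟨α, h2 _ (fun x hx => x.2 hx), ?_⟩
  have h3 := h1 (one Λ X)
  rwa [res_one, one_mul] at h3

/-- The slices of the class of the diagonal are nonzero. -/
theorem slice_ne_zero (hΛ : IsField Λ) (h : N + N = NS) (x₀ : K ⟶ X) (hx₀ : x₀ ≫ a = 𝟙 K)
    (α : R Λ X N) (hα : res (U0 a x₀ hx₀).ι N α = 0) (hα1 : trX α ≠ 0)
    (c : R Λ (pullback a a) N)
    (hc : ∀ z : R Λ (pullback a a) N, trS (z.comp c h) = trX (res (pullback.diagonal a) N z)) :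
    res (i0 a x₀ hx₀) N c ≠ 0 := by
  intro h0
  subst h
  have h1 : c.comp (res (pullback.fst a a) N α) (rfl : N + N = N + N) =
      (0 : R Λ (pullback a a) N).comp (res (pullback.fst a a) N α) (rfl : N + N = N + N) := by
    refine mul_eq_of_res_eq (i0 a x₀ hx₀) _ (isCompl_i0 a x₀ hx₀) _ _ (res_fst a x₀ hx₀ α hα) c 0 ?_
    rw [h0, map_zero]
  have h2 := comm hΛ (res (pullback.fst a a) N α) c
  rw [h1, Ext.zero_comp, smul_zero] at h2
  have h3 := hc (res (pullback.fst a a) N α)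
  rw [h2, map_zero, res_res Λ _ _ _ (pullback.diagonal_fst a), res_id _ rfl] at h3
  exact hα1 h3.symm

end Diagonal

end Groth.Agent.Sga4h.H564.Diag
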