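import Groth.Agent.Sga4h.H564.DiagMain
import Groth.Agent.Sga4h.H564.ConsPBC
import Groth.Agent.Sga4h.BidGlobAC
import Groth.Agent.Sga4B.PkgB

/-!
# The class of the diagonal: unconditional form

`dualHyp`: Poincaré duality in the form `DualHyp`; `exists_diag`: the class of the diagonal on `X × X` with a common
nonzero slice.
-/

set_option autoImplicit false

universe u

open CategoryTheory CategoryTheory.Limits CategoryTheory.Abelian AlgebraicGeometry Opposite

namespace Groth.Agent.Sga4h.H564.DiagFinal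

open Groth.Agent.Sga4h.BidGlobDual Groth.Agent.Sga5.H861 Groth.Agent.Sga5.H861.Res
  Groth.Agent.Sga5.H861.Slices
open scoped Groth.Agent.Etcore.EtInst Groth.Agent.Sga4B.ModEtInst

variable {k : Type u} [Field k] [IsAlgClosed k]

/-- **Poincaré duality** for all sheaves on proper smooth schemes. -/
theorem dualHyp (ℓ : ℕ) [hp : Fact ℓ.Prime] (hℓ : (ℓ : k) ≠ 0) : DiagMain.DualHyp.{u} k ℓ :=
  fun a _ d _ => BidGlobAC.exists_sheafDual a d ℓ hp.out.pos (Sga4B.PkgB.pkg k ℓ hℓ d)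

/-- **The class of the diagonal** and its slices. -/
theorem exists_diag {X : Scheme.{u}} (p : X ⟶ Spec (CommRingCat.of k)) (ℓ : ℕ) [Fact ℓ.Prime]
    (hℓ : (ℓ : k) ≠ 0) [IsProper p] [ConnectedSpace X] (d : ℕ) [SmoothOfRelativeDimension d p] :
    ∃ (c : R (ULift.{u + 1} (ZMod ℓ)) (pullback p p) (2 * d))
      (β : R (ULift.{u + 1} (ZMod ℓ)) X (2 * d)), res (UΔ p).ι (2 * d) c = 0 ∧ β ≠ 0 ∧
      ∀ (s : Spec (CommRingCat.of k) ⟶ X) (hs : s ≫ p = 𝟙 _), res (i0 p s hs) (2 * d) c = β :=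
  DiagMain.exists_diag p ℓ (dualHyp ℓ hℓ) ConsPBC.pbc d

end Groth.Agent.Sga4h.H564.DiagFinal
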