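import Groth.Agent.Sga4h.H564.Slices
import Groth.Agent.Sga5.H861.T1
import Mathlib.LinearAlgebra.Dual.Lemmas
import Mathlib.Algebra.Field.ZMod

/-!
# The class of the diagonal on `X × X`, `X` connected, smooth and proper over an algebraically closed field

`exists_diag_abs`: variable coefficient field `L`, slices of classes independent of the point as a hypothesis.
`exists_diag`: coefficients `ULift (ZMod ℓ)`; inputs are duality (`DualHyp`) and proper base change (`PBC`).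
-/

set_option autoImplicit false

universe u t

open CategoryTheory CategoryTheory.Limits CategoryTheory.Abelian AlgebraicGeometry Opposite

namespace Groth.Agent.Sga4h.H564.DiagMain

open Groth.Agent.Sga4h.BidGlobDual Groth.Agent.Sga5.H861 Groth.Agent.Sga5.H861.Res
  Groth.Agent.Sga5.H861.Slices Groth.Agent.Vancyc.H687
open scoped Groth.Agent.Etcore.EtInst Groth.Agent.Sga4B.ModEtInst

theorem exists_functional_aux {K V : Type*} [Field K] [AddCommGroup V] [Module K V]
    (v : V) (hv : v ≠ 0) : ∃ e : V →+ K, e v = 1 := by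
  obtain ⟨φ, hφ⟩ : ∃ φ : V →ₗ[K] K, φ v ≠ 0 := by
    by_contra hcon
    push Not at hcon
    exact hv ((Module.forall_dual_apply_eq_zero_iff K v).1 hcon)
  refine ⟨((φ v)⁻¹ • φ).toAddMonoidHom, ?_⟩
  change (φ v)⁻¹ * φ v = 1
  exact inv_mul_cancel₀ hφ

/-- Separation of vectors by functionals on groups killed by a prime. -/
theorem exists_functional (ℓ : ℕ) [Fact ℓ.Prime] {V : Type*} [AddCommGroup V] (h : ∀ x : V, ℓ • x = 0)
    (v : V) (hv : v ≠ 0) : ∃ e : V →+ ZMod ℓ, e v = 1 := by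
  let _ : Module (ZMod ℓ) V := AddCommGroup.zmodModule h
  exact exists_functional_aux v hv

theorem isField_uliftZMod (ℓ : ℕ) [Fact ℓ.Prime] : IsField (ULift.{u + 1} (ZMod ℓ)) :=
  MulEquiv.isField (Field.toIsField (ZMod ℓ)) (ULift.ringEquiv (R := ZMod ℓ)).toMulEquiv

/-- `L` a field of characteristic `ℓ`; the slices are independent of the point by hypothesis. -/
theorem exists_diag_abs {L : Type (u + 1)} [CommRing L] (hL : IsField L) (ℓ : ℕ) [Fact ℓ.Prime] [T1.IsZ ℓ L]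
    {X K : Scheme.{u}} [Nonempty K] (a : X ⟶ K) [IsSeparated a] {N NS : ℕ} (h : N + N = NS)
    {trS : R L (pullback a a) NS →+ ZMod ℓ} (AS : SheafDual ℓ trS)
    {trX : R L X N →+ ZMod ℓ} (AX : SheafDual ℓ trX)
    (hsl : ∀ (c : R L (pullback a a) N) (s s' : K ⟶ X) (hs : s ≫ a = 𝟙 K) (hs' : s' ≫ a = 𝟙 K),
      res (i0 a s hs) N c = res (i0 a s' hs') N c) (s₀ : K ⟶ X) (hs₀ : s₀ ≫ a = 𝟙 K) :
    ∃ (c : R L (pullback a a) N) (β : R L X N), res (UΔ a).ι N c = 0 ∧ β ≠ 0 ∧
      (∀ (s : K ⟶ X) (hs : s ≫ a = 𝟙 K), res (i0 a s hs) N c = β) ∧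
      (∀ z : R L (pullback a a) N, trS (z.comp c h) = trX (res (pullback.diagonal a) N z)) := by
  have hnt : Nontrivial L := hL.nontrivial
  obtain ⟨c, h1, h2⟩ := Diag.exists_diag a (trX := trX) AS h
  obtain ⟨t₀, ht₀⟩ := exists_functional ℓ (fun x : R L K 0 => T1.nsmul_eq_zero ℓ L x) (Diag.one L K)
    Diag.one_ne_zero
  obtain ⟨α, hα, hα1⟩ := Diag.exists_point a AX s₀ hs₀ t₀
  refine ⟨c, res (i0 a s₀ hs₀) N c, h1, ?_, fun s hs => hsl c s s₀ hs hs₀, h2⟩
  exact Diag.slice_ne_zero a hL h s₀ hs₀ α hα (by rw [hα1, ht₀]; exact one_ne_zero) c h2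

/-- Poincaré duality for proper smooth `k`-schemes, coefficients `ULift (ZMod ℓ)`, all sheaves. -/
def DualHyp (k : Type u) [Field k] (ℓ : ℕ) : Prop :=
  ∀ {P : Scheme.{u}} (a : P ⟶ Spec (CommRingCat.of k)) [IsProper a] (d : ℕ)
    [SmoothOfRelativeDimension d a],
    ∃ tr : R (ULift.{u + 1} (ZMod ℓ)) P (2 * d) →+ ZMod ℓ, SheafDual ℓ tr

section

variable {k : Type u} [Field k] [IsAlgClosed k] {X : Scheme.{u}} (p : X ⟶ Spec (CommRingCat.of k))

/-- A nonempty scheme locally of finite type over an algebraically closed field has a rational point. -/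
theorem exists_point [LocallyOfFiniteType p] [Nonempty X] :
    ∃ s : Spec (CommRingCat.of k) ⟶ X, s ≫ p = 𝟙 _ := by
  have hJ : JacobsonSpace X := LocallyOfFiniteType.jacobsonSpace p
  obtain ⟨x₀, hx₀⟩ : (closedPoints X).Nonempty := by
    have h := nonempty_inter_closedPoints (X := X) (Z := Set.univ) Set.univ_nonempty
      isClosed_univ.isLocallyClosed
    rwa [Set.univ_inter] at h
  exact ⟨pointOfClosedPoint p x₀ hx₀, pointOfClosedPoint_comp p x₀ hx₀⟩

theorem exists_diag (ℓ : ℕ) [Fact ℓ.Prime] (hD : DualHyp.{u} k ℓ) (hP : LocZero.PBC.{u}) [IsProper p]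
    [ConnectedSpace X] (d : ℕ) [SmoothOfRelativeDimension d p] :
    ∃ (c : R (ULift.{u + 1} (ZMod ℓ)) (pullback p p) (2 * d))
      (β : R (ULift.{u + 1} (ZMod ℓ)) X (2 * d)), res (UΔ p).ι (2 * d) c = 0 ∧ β ≠ 0 ∧
      ∀ (s : Spec (CommRingCat.of k) ⟶ X) (hs : s ≫ p = 𝟙 _), res (i0 p s hs) (2 * d) c = β := by
  have i1 : SmoothOfRelativeDimension d (pullback.fst p p) := by
    have := smoothOfRelativeDimension_isStableUnderBaseChange d
    exact MorphismProperty.pullback_fst p p inferInstance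
  have i2 : SmoothOfRelativeDimension (d + d) (pullback.fst p p ≫ p) := inferInstance
  obtain ⟨trS, AS⟩ := hD (pullback.fst p p ≫ p) (d + d)
  obtain ⟨trX, AX⟩ := hD p d
  obtain ⟨s₀, hs₀⟩ := exists_point p
  have hL : IsField (ULift.{u + 1} (ZMod ℓ)) := isField_uliftZMod ℓ
  have hsl := fun (c : R (ULift.{u + 1} (ZMod ℓ)) (pullback p p) (2 * d)) s s' hs hs' =>
    Slices.res_slice_eq p hP (ZMod ℓ) c s s' hs hs'
  obtain ⟨c, β, h1, h2, h3, -⟩ := exists_diag_abs hL ℓ p (by omega : 2 * d + 2 * d = 2 * (d + d)) AS AX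
    hsl s₀ hs₀
  exact ⟨c, β, h1, h2, h3⟩

end

end Groth.Agent.Sga4h.H564.DiagMain
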