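import Groth.Agent.Sga4h.H13.FamBase

/-!
# The dimension of the ring of functions of a finite scheme as a sum over a clopen decomposition
-/

set_option autoImplicit false
universe u
open CategoryTheory CategoryTheory.Limits AlgebraicGeometry Opposite

namespace Groth.Agent.Sga4h.H564.FamSum

open Groth.Agent.Sga4h.H13

noncomputable section

variable {F : Scheme.{u}} {ι : Type} (V : ι → F.Opens)

/-- Restriction of functions to the opens `V i`. -/
def res : (Γ(F, ⊤) : Type u) →+* (∀ i, (Γ((V i).toScheme, ⊤) : Type u)) :=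
  RingHom.pi (fun i => (V i).ι.appTop.hom)

theorem res_apply (s : (Γ(F, ⊤) : Type u)) (i : ι) : res V s i = (V i).ι.appTop s := rfl

theorem iSup_image (hV : ⨆ i, V i = ⊤) : (⊤ : F.Opens) ≤ ⨆ i, (V i).ι ''ᵁ ⊤ := by
  simp_rw [Scheme.Opens.ι_image_top]
  rw [hV]

theorem res_injective (hV : ⨆ i, V i = ⊤) : Function.Injective (res V) := by
  intro s t h
  exact F.sheaf.eq_of_locally_eq' (fun i => (V i).ι ''ᵁ ⊤) ⊤ (fun i => homOfLE le_top)
    (iSup_image V hV) s t (fun i => congrFun h i)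

theorem res_surjective (hV : ⨆ i, V i = ⊤) (hd : ∀ i j, i ≠ j → V i ⊓ V j = ⊥) :
    Function.Surjective (res V) := by
  intro x
  have hc : TopCat.Presheaf.IsCompatible F.sheaf.1 (fun i => (V i).ι ''ᵁ ⊤) x := by
    intro i j
    by_cases hij : i = j
    · subst hij
      rfl
    · have h0 : (V i).ι ''ᵁ ⊤ ⊓ (V j).ι ''ᵁ ⊤ = ⊥ := by
        rw [Scheme.Opens.ι_image_top, Scheme.Opens.ι_image_top]
        exact hd i j hij
      have : Subsingleton (F.sheaf.1.obj (op ((V i).ι ''ᵁ ⊤ ⊓ (V j).ι ''ᵁ ⊤)) : Type u) := by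
        rw [h0]
        exact inferInstanceAs (Subsingleton (Γ(F, ⊥) : Type u))
      exact Subsingleton.elim _ _
  obtain ⟨s, hs, -⟩ := F.sheaf.existsUnique_gluing' (fun i => (V i).ι ''ᵁ ⊤) ⊤
    (fun i => homOfLE le_top) (iSup_image V hV) x hc
  exact ⟨s, funext fun i => hs i⟩

set_option backward.isDefEq.respectTransparency.types false in
theorem module_finite {k : Type u} [Field k] (c : F ⟶ Spec (CommRingCat.of k)) [IsFinite c] :
    letI : Algebra k (Γ(F, ⊤) : Type u) :=
      RingHom.toAlgebra ((Scheme.ΓSpecIso (CommRingCat.of k)).inv ≫ c.appTop).hom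
    Module.Finite k (Γ(F, ⊤) : Type u) := by
  let _ : Algebra k (Γ(F, ⊤) : Type u) :=
    RingHom.toAlgebra ((Scheme.ΓSpecIso (CommRingCat.of k)).inv ≫ c.appTop).hom
  have hF : IsAffine F := isAffine_of_isAffineHom c
  have hc : c = F.isoSpec.hom ≫ Spec.map (CommRingCat.ofHom (algebraMap k (Γ(F, ⊤) : Type u))) := by
    change c = F.toSpecΓ ≫ Spec.map ((Scheme.ΓSpecIso (CommRingCat.of k)).inv ≫ c.appTop)
    rw [Spec.map_comp, ← Scheme.toSpecΓ_naturality_assoc, toSpecΓ_SpecMap_ΓSpecIso_inv,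
      Category.comp_id]
  have hfin : IsFinite (Spec.map (CommRingCat.ofHom (algebraMap k (Γ(F, ⊤) : Type u)))) := by
    have h1 : IsFinite (F.isoSpec.inv ≫ c) := inferInstance
    rwa [hc, Iso.inv_hom_id_assoc] at h1
  rw [IsFinite.SpecMap_iff] at hfin
  exact hfin

/-- The dimension is additive for finite decompositions into disjoint opens. -/
theorem gdim_eq_sum {k : Type u} [Field k] [Fintype ι] (c : F ⟶ Spec (CommRingCat.of k)) [IsFinite c]
    (hV : ⨆ i, V i = ⊤) (hd : ∀ i j, i ≠ j → V i ⊓ V j = ⊥) :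
    gdim c = ∑ i, gdim ((V i).ι ≫ c) := by
  let _ : Algebra k (Γ(F, ⊤) : Type u) :=
    RingHom.toAlgebra ((Scheme.ΓSpecIso (CommRingCat.of k)).inv ≫ c.appTop).hom
  let _ : ∀ i, Algebra k (Γ((V i).toScheme, ⊤) : Type u) := fun i =>
    RingHom.toAlgebra ((Scheme.ΓSpecIso (CommRingCat.of k)).inv ≫ ((V i).ι ≫ c).appTop).hom
  have hfin : Module.Finite k (Γ(F, ⊤) : Type u) := module_finite c
  let φ : (Γ(F, ⊤) : Type u) →ₐ[k] (∀ i, (Γ((V i).toScheme, ⊤) : Type u)) :=
    { res V with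
      commutes' := fun r => by
        funext i
        change (V i).ι.appTop (c.appTop ((Scheme.ΓSpecIso (CommRingCat.of k)).inv r)) =
          ((V i).ι ≫ c).appTop ((Scheme.ΓSpecIso (CommRingCat.of k)).inv r)
        rw [Scheme.Hom.comp_appTop]
        rfl }
  have hφ : Function.Bijective φ := ⟨res_injective V hV, res_surjective V hV hd⟩
  have hfin' : ∀ i, Module.Finite k (Γ((V i).toScheme, ⊤) : Type u) := fun i =>
    Module.Finite.of_surjective ((LinearMap.proj i).comp φ.toLinearMap)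
      ((Function.surjective_eval i).comp hφ.2)
  change Module.finrank k (Γ(F, ⊤) : Type u) =
    ∑ i, Module.finrank k (Γ((V i).toScheme, ⊤) : Type u)
  rw [(LinearEquiv.ofBijective φ.toLinearMap hφ).finrank_eq, Module.finrank_pi_fintype]

end

end Groth.Agent.Sga4h.H564.FamSum
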