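import Groth.Agent.Sga5.H861.Slices
import Groth.Agent.Sga4h.BidGlobDual

/-!
# Classes of closed subschemes from duality

`i : Z ⟶ S` a closed immersion, `tr : R^N(S) → E` a perfect trace (`SheafDual n tr`), `t : R^m(Z) → E`,
`m + q = N`: there is `c ∈ R^q(S)` with `tr (z · c) = t (i^* z)` for all `z ∈ R^m(S)`, which vanishes on every scheme
mapping to the complement of `Z` (`exists_class`).
-/

set_option autoImplicit false

universe w v v' u u' t

open CategoryTheory CategoryTheory.Limits CategoryTheory.Abelian AlgebraicGeometry Opposite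

namespace Groth.Agent.Sga4h.H564.Gysin

open Groth.Agent.Sga4h.BidGlobDual

section Abstract

variable {C : Type u} [Category.{v} C] [Abelian C] [HasExt.{w} C]
  {B : Type u'} [Category.{v'} B] [Abelian B] [HasExt.{w} B]
  {L : C ⥤ B} {R : B ⥤ C} (adj : L ⊣ R)
  [L.Additive] [PreservesFiniteLimits L] [PreservesFiniteColimits L]

/-- `Ext^m(Z, R L I) → Ext^m(L Z, L I)`. -/
noncomputable def toB (Z I : C) (m : ℕ) : Ext.{w} Z (R.obj (L.obj I)) m →+ Ext.{w} (L.obj Z) (L.obj I) m :=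
  AddMonoidHom.mk' (fun x => (x.mapExactFunctor L).comp (Ext.mk₀ (adj.counit.app (L.obj I))) (add_zero m))
    (fun x y => by rw [Ext.mapExactFunctor_add, Ext.add_comp])

theorem toB_unit (Z I : C) (m : ℕ) (z : Ext.{w} Z I m) :
    toB adj Z I m (z.comp (Ext.mk₀ (adj.unit.app I)) (add_zero m)) = z.mapExactFunctor L := by
  change (Ext.mapExactFunctor L (z.comp (Ext.mk₀ (adj.unit.app I)) (add_zero m))).comp
    (Ext.mk₀ (adj.counit.app (L.obj I))) (add_zero m) = _
  rw [Ext.mapExactFunctor_comp, Ext.mapExactFunctor_mk₀, Ext.comp_assoc_of_third_deg_zero,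
    Ext.mk₀_comp_mk₀]
  have h : L.map (adj.unit.app I) ≫ adj.counit.app (L.obj I) = 𝟙 _ := adj.left_triangle_components I
  rw [h]
  exact Ext.comp_mk₀_id _

/-- The class defined by a functional on `Ext^m(L Z, L I')`. -/
theorem exists_class_abs {Z I : C} {N n : ℕ} {E : Type t} [AddCommGroup E] {tr : Ext.{w} Z I N →+ E}
    (A : SheafDual n tr) (I' : C) {q m : ℕ} (h : m + q = N) (t : Ext.{w} (L.obj Z) (L.obj I') m →+ E) :
    ∃ c' : Ext.{w} (R.obj (L.obj I')) I q, ∀ z : Ext.{w} Z I' m,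
      tr (z.comp ((Ext.mk₀ (adj.unit.app I')).comp c' (zero_add q)) h) = t (z.mapExactFunctor L) := by
  obtain ⟨c', hc'⟩ := (A.bij (R.obj (L.obj I')) h).2 (t.comp (toB adj Z I' m))
  refine ⟨c', fun z => ?_⟩
  have h1 := DFunLike.congr_fun hc' (z.comp (Ext.mk₀ (adj.unit.app I')) (add_zero m))
  rw [phiC_apply, AddMonoidHom.comp_apply, toB_unit, Ext.comp_assoc_of_second_deg_zero] at h1
  exact h1

omit [Abelian B] [HasExt.{w} B] [L.Additive] [PreservesFiniteLimits L] [PreservesFiniteColimits L] in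
/-- Such a class dies under every exact functor killing `R L I'`. -/
theorem map_eq_zero {D : Type*} [Category D] [Abelian D] [HasExt.{w} D] (G : C ⥤ D) [G.Additive]
    [PreservesFiniteLimits G] [PreservesFiniteColimits G] {I I' : C} {q : ℕ}
    (c' : Ext.{w} (R.obj (L.obj I')) I q) (hG : IsZero (G.obj (R.obj (L.obj I')))) :
    ((Ext.mk₀ (adj.unit.app I')).comp c' (zero_add q)).mapExactFunctor G = 0 := by
  have h0 : G.map (adj.unit.app I') = 0 := hG.eq_of_tgt _ _
  rw [Ext.mapExactFunctor_comp, Ext.mapExactFunctor_mk₀, h0, Ext.mk₀_zero, Ext.zero_comp]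

end Abstract

section Scheme

open Groth.Agent.Sga5.H861 Groth.Agent.Sga5.H861.Res Groth.Agent.Sga4h.LFinSupp
open Groth.Agent.Etcore.LPull
open scoped Groth.Agent.Etcore.EtInst Groth.Agent.Sga4B.ModEtInst

variable {Λ : Type (u + 1)} [CommRing Λ] {Z S : Scheme.{u}} {n N : ℕ} {E : Type t} [AddCommGroup E]

/-- `x ↦ α x β` for isomorphisms, the passage from `Ext(i^* Λ, i^* Λ)` to `R(Z)`. -/
noncomputable def conj (i : Z ⟶ S) (m : ℕ) :
    Ext.{u + 1} ((EtModW.pull Λ i).obj (FixPt.unit Λ S)) ((EtModW.pull Λ i).obj (FixPt.unit Λ S)) m →+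
      R Λ Z m :=
  AddMonoidHom.mk' (fun x => ((Ext.mk₀ (FixPt.pullUnit (Λ := Λ) i).inv).comp x (zero_add m)).comp
        (Ext.mk₀ (FixPt.pullUnit (Λ := Λ) i).hom) (add_zero m))
    (fun x y => by rw [Ext.comp_add, Ext.add_comp])

/-- **The class defined by a functional on the cohomology of a closed subscheme.** -/
theorem exists_class {tr : R Λ S N →+ E} (A : SheafDual n tr) (i : Z ⟶ S) [IsClosedImmersion i]
    {q m : ℕ} (h : m + q = N) (t : R Λ Z m →+ E) :
    ∃ c : R Λ S q, (∀ z : R Λ S m, tr (z.comp c h) = t (res i m z)) ∧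
      ∀ {U : Scheme.{u}} (j : U ⟶ S) (_ : ∀ x, j x ∉ Set.range i), res j q c = 0 := by
  obtain ⟨c', hc'⟩ := exists_class_abs (pullPushAdj (Λ := Λ) i) A (FixPt.unit Λ S) h
    (t.comp (conj i m))
  refine ⟨_, hc', fun {U} j hj => ?_⟩
  rw [res_eq_zero_iff]
  exact map_eq_zero (pullPushAdj (Λ := Λ) i) (EtModW.pull Λ j) c'
    ((zeroOff_push_range (Λ := Λ) i _).isZero_pull j hj)

end Scheme

end Groth.Agent.Sga4h.H564.Gysin
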