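import Groth.Agent.Sga4h.H564.Diag
import Groth.Agent.Sga4h.H564.Cons
import Groth.Agent.Sga4h.H556.GeoBase

/-!
# The slices of a class on `X × X` coincide

* `cmpR : R (ULift M) X m ≃+ H^m(X, M)` with `cmpR_res : cmpR (res f m x) = hc M f m (cmpR x)`;
* `res_slice_eq`: for `X` proper and connected over an algebraically closed field, `M` finite, the restrictions of a
  class of `R^m(X × X)` to `{s} × X` do not depend on `s` (proper base change is the hypothesis `PBC`);
* `exists_diag`: the class of the diagonal with a common nonzero slice.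
-/

set_option autoImplicit false

universe u t

open CategoryTheory CategoryTheory.Limits CategoryTheory.Abelian AlgebraicGeometry Opposite

namespace Groth.Agent.Sga4h.H564.Slices

open Groth.Agent.Sga4h.BidGlobDual Groth.Agent.Sga5.H861 Groth.Agent.Sga5.H861.Res
  Groth.Agent.Sga5.H861.Slices Groth.Agent.Sga4h.H915.DictConst Groth.Agent.Sga4h.H556.Supp
  Groth.Agent.Vancyc.H687
open Groth.Agent.Etcore Groth.Agent.Etcore.EtInst Groth.Agent.Etcore.HpullCalc
open scoped Groth.Agent.Etcore.EtInst Groth.Agent.Sga4B.ModEtInst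

section Cmp

variable (M : Type) [CommRing M] {X Y : Scheme.{u}}

/-- `R^m(X) ≃ H^m(X, M)`, for the coefficient ring `ULift M`. -/
noncomputable def cmpR (X : Scheme.{u}) (m : ℕ) :
    R (ULift.{u + 1} M) X m ≃+ HH X (EtCoh.const X M) m := cmpC (Λ := ULift.{u + 1} M) m

/-- Compatibility with inverse images. -/
theorem cmpR_res (f : X ⟶ Y) (m : ℕ) (x : R (ULift.{u + 1} M) Y m) :
    cmpR M X m (res f m x) = hc M f m (cmpR M Y m x) := by
  rw [hc_apply]
  exact cmpC_res f m x

theorem res_eq_iff_hc {Z : Scheme.{u}} (f : X ⟶ Y) (g : X ⟶ Z) (m : ℕ) (x : R (ULift.{u + 1} M) Y m)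
    (y : R (ULift.{u + 1} M) Z m) :
    res f m x = res g m y ↔ hc M f m (cmpR M Y m x) = hc M g m (cmpR M Z m y) := by
  rw [← cmpR_res, ← cmpR_res, (cmpR M X m).injective.eq_iff]

theorem res_eq_zero_iff_hc (f : X ⟶ Y) (m : ℕ) (x : R (ULift.{u + 1} M) Y m) :
    res f m x = 0 ↔ hc M f m (cmpR M Y m x) = 0 := by
  rw [← cmpR_res, map_eq_zero_iff _ (cmpR M X m).injective]

end Cmp

section Slice

variable {k : Type u} [Field k] [IsAlgClosed k] {X : Scheme.{u}} (p : X ⟶ Spec (CommRingCat.of k))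

/-- **The slices of a class coincide.** -/
theorem res_slice_eq (hP : LocZero.PBC.{u}) [IsProper p] [ConnectedSpace X] (M : Type) [CommRing M]
    [Finite M] {m : ℕ} (c : R (ULift.{u + 1} M) (pullback p p) m) (s s' : Spec (CommRingCat.of k) ⟶ X)
    (hs : s ≫ p = 𝟙 _) (hs' : s' ≫ p = 𝟙 _) : res (i0 p s hs) m c = res (i0 p s' hs') m c := by
  rw [res_eq_iff_hc]
  exact Cons.hc_eq hP (IsPullback.of_hasPullback p p).flip M (Cons.isTorsion_const M _) m _ _ s s'
    (i0_snd p s hs) (i0_snd p s' hs') (i0_fst p s hs) (i0_fst p s' hs') hs hs' (cmpR M _ m c)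

end Slice

end Groth.Agent.Sga4h.H564.Slices
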